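/-
Tate's theorem on control of transfer (elementary proof through a transfer in a fibre product).
-/
import Cfsg.Agent.Transfer.Control
import Cfsg.Agent.Grp.PGroupFrattini
import Cfsg.Agent.Grp.Coprime

set_option autoImplicit false

open Subgroup Cfsg
open scoped commutatorElement IsMulCommutative Pointwise

namespace CL.Transfer

variable {G : Type*} [Group G]

/-- Let `K` be normal with no nontrivial homomorphism to the abelian group `A`, and let `θ : K ∩ H → A` be
invariant under conjugation by `H`. Then a power `θ ^ n`, `n ∣ [G : H]`, extends to `H`. -/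
theorem exists_hom_extends_pow [Finite G] (K H : Subgroup G) [K.Normal] {A : Type*} [CommGroup A]
    (hK : ∀ f : K →* A, ∀ k, f k = 1) (θ : (K ⊓ H : Subgroup G) →* A)
    (hθ : ∀ h ∈ H, ∀ (m : G) (hm : m ∈ K ⊓ H) (hm' : h⁻¹ * m * h ∈ K ⊓ H),
      θ ⟨_, hm'⟩ = θ ⟨m, hm⟩) :
    ∃ (φ : H →* A) (n : ℕ), n ∣ H.index ∧
      ∀ (m : G) (hm : m ∈ K ⊓ H), φ ⟨m, hm.2⟩ = θ ⟨m, hm⟩ ^ n := by
  let D : Subgroup (G × H) :=
    MonoidHom.eqLocus ((QuotientGroup.mk' K).comp (MonoidHom.fst G H))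
      ((QuotientGroup.mk' K).comp (H.subtype.comp (MonoidHom.snd G H)))
  have memD : ∀ x : G × H, x ∈ D ↔ x.1⁻¹ * x.2 ∈ K := fun x => QuotientGroup.eq
  let π : D →* G := (MonoidHom.fst G H).comp D.subtype
  let E : Subgroup D := H.comap π
  have memKH : ∀ e : E, (e.1.1.1)⁻¹ * (e.1.1.2 : G) ∈ K ⊓ H := fun e =>
    ⟨(memD _).mp e.1.2, H.mul_mem (H.inv_mem e.2) e.1.1.2.2⟩
  have conjKH : ∀ h ∈ H, ∀ m ∈ K ⊓ H, h⁻¹ * m * h ∈ K ⊓ H := fun h hh m hm =>
    ⟨Normal.conj_mem' inferInstance m hm.1 h, H.mul_mem (H.mul_mem (H.inv_mem hh) hm.2) hh⟩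
  let ψ : E →* A := MonoidHom.mk' (fun e => θ ⟨_, memKH e⟩) fun a b => by
    rw [← hθ b.1.1.1 b.2 _ (memKH a) (conjKH _ b.2 _ (memKH a)), ← map_mul]
    refine congrArg θ (Subtype.ext ?_)
    simp [mul_assoc]
  let ι₁ : K →* D := ((MonoidHom.inl G H).comp K.subtype).codRestrict D fun k =>
    (memD _).mpr (by simp)
  let ι₂ : H →* D := (H.subtype.prod (MonoidHom.id H)).codRestrict D fun k =>
    (memD _).mpr (by simp)
  refine ⟨(MonoidHom.transfer ψ).comp ι₂, E.index, ?_, fun m hm => ?_⟩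
  · rw [index_comap]
    exact relIndex_dvd_index_of_le fun h hh => ⟨ι₂ ⟨h, hh⟩, rfl⟩
  · let d : D := ⟨(1, ⟨m, hm.2⟩), (memD _).mpr (by simpa using hm.1)⟩
    have h1 : ι₂ ⟨m, hm.2⟩ = ι₁ ⟨m, hm.1⟩ * d := by
      refine Subtype.ext (Prod.ext ?_ ?_) <;> simp [ι₁, ι₂, d]
    rw [MonoidHom.comp_apply, h1, map_mul, ← MonoidHom.comp_apply, hK, one_mul]
    refine transfer_eq_pow_of_conj ψ d _ fun k g hg => ?_
    rw [← map_pow]
    refine Eq.trans ?_ (hθ g.1.2 g.1.2.2 (m ^ k) (pow_mem hm k) (conjKH _ g.1.2.2 _ (pow_mem hm k)))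
    refine congrArg θ (Subtype.ext ?_)
    simp [d]

/-- **Tate's theorem**, core form. Let `[G : H]` be prime to `p` and let `K = O^p(K)` be normal in `G`. If `K ∩ H`
lies in every normal subgroup of index `p` of `H`, then `K ∩ H ≤ O^p(H)`. -/
theorem inf_le_pResidual_of_forall_index [Finite G] {p : ℕ} [hp : Fact p.Prime] (K H : Subgroup G)
    [K.Normal] (hK : pResidual p K = ⊤) (hH : ¬ p ∣ H.index)
    (h : ∀ U : Subgroup H, U.Normal → U.index = p → K.subgroupOf H ≤ U) :
    K ⊓ H ≤ (pResidual p H).map H.subtype := by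
  have := pResidual_normal (G := H) p
  rw [← subgroupOf_map_subtype, map_subtype_le_map_subtype]
  by_contra hcon
  -- a normal subgroup `Y` of `H`, maximal among those above `O^p(H)` that do not contain `K ∩ H`
  obtain ⟨Y, hLY, hY⟩ := Finite.exists_le_maximal
    (p := fun Y : Subgroup H => Y.Normal ∧ ¬ K.subgroupOf H ≤ Y) (a := pResidual p H) ⟨this, hcon⟩
  have hYn : Y.Normal := hY.prop.1
  have hQ : IsPGroup p (H ⧸ Y) := (isPGroup_quotient_pResidual (G := H) p).of_surjective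
    (QuotientGroup.map _ _ (MonoidHom.id H) hLY)
    (QuotientGroup.map_surjective_of_surjective _ _ _ QuotientGroup.mk_surjective _)
  let M : Subgroup (H ⧸ Y) := (K.subgroupOf H).map (QuotientGroup.mk' Y)
  have hMn : M.Normal := Normal.map inferInstance _ (QuotientGroup.mk'_surjective Y)
  have hM : ⊥ < M := by
    rw [bot_lt_iff_ne_bot, Ne, Subgroup.map_eq_bot_iff, QuotientGroup.ker_mk']
    exact hY.prop.2
  obtain ⟨Z, hZn, -, hZM, hZ, -, hZc⟩ := Grp.exists_normal_card_eq_mul hQ hM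
  rw [card_bot, mul_one] at hZ
  have hMZ : M = Z := by
    refine le_antisymm ?_ hZM
    rw [map_le_iff_le_comap]
    by_contra hc
    have h1 : Y ≤ Z.comap (QuotientGroup.mk' Y) := by
      simpa using Z.ker_le_comap (QuotientGroup.mk' Y)
    have h2 := hY.le_of_ge ⟨inferInstance, hc⟩ h1
    have h3 : Z = ⊥ := by
      rw [← map_comap_eq_self_of_surjective (QuotientGroup.mk'_surjective Y) Z, Subgroup.map_eq_bot_iff,
        QuotientGroup.ker_mk']
      exact h2
    rw [h3, card_bot] at hZ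
    exact hp.out.one_lt.ne hZ
  rw [← hMZ] at hZ hZc
  have hMc : M ≤ center (H ⧸ Y) := commutator_top_right_eq_bot_iff_le_center.mp (le_bot_iff.mp hZc)
  have : IsCyclic M := isCyclic_of_prime_card hZ
  let θ : (K ⊓ H : Subgroup G) →* M :=
    ((QuotientGroup.mk' Y).comp (inclusion inf_le_right)).codRestrict M fun m =>
      ⟨_, m.2.1, rfl⟩
  obtain ⟨φ, n, hn, hφ⟩ := exists_hom_extends_pow K H (A := M) (fun f k =>
    pResidual_le_ker (hQ.to_subgroup M) f (hK ▸ mem_top k)) θ (fun x hx m hm hm' => by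
      refine Subtype.ext ?_
      have h1 := mem_center_iff.mp (hMc (θ ⟨m, hm⟩).2) (QuotientGroup.mk' Y ⟨x, hx⟩)
      change QuotientGroup.mk' Y ((⟨x, hx⟩ : H)⁻¹ * ⟨m, hm.2⟩ * ⟨x, hx⟩) = _
      rw [map_mul, map_mul, map_inv, mul_assoc]
      exact inv_mul_eq_iff_eq_mul.mpr h1.symm)
  obtain ⟨m, hmK, hmY⟩ := SetLike.not_le_iff_exists.mp hY.prop.2
  have h1 : φ m ≠ 1 := by
    intro h1
    have h2 := hφ m ⟨hmK, m.2⟩
    rw [show φ ⟨m, m.2⟩ = 1 from h1] at h2
    have h3 : θ ⟨m, hmK, m.2⟩ = 1 := orderOf_eq_one_iff.mp (Nat.eq_one_of_dvd_coprimes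
      ((Nat.Prime.coprime_iff_not_dvd hp.out).mpr fun hd => hH (hd.trans hn))
      (hZ ▸ orderOf_dvd_natCard _) (orderOf_dvd_of_pow_eq_one h2.symm))
    exact hmY ((QuotientGroup.eq_one_iff m).mp (congrArg Subtype.val h3))
  refine h1 (h φ.ker inferInstance ?_ hmK)
  rw [index_ker]
  refine ((Nat.dvd_prime hp.out).mp (hZ ▸ card_subgroup_dvd_card φ.range)).resolve_left fun h4 => ?_
  rw [card_eq_one] at h4
  exact h1 (mem_bot.mp (h4 ▸ ⟨m, rfl⟩))

/-- **Tate's theorem**. Let `P ≤ H`, `P` a Sylow `p`-subgroup. If `P ∩ O^p(G)` lies in every normal subgroup of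
index `p` of `H`, then `H ∩ O^p(G) = O^p(H)`. -/
theorem tate [Finite G] {p : ℕ} [hp : Fact p.Prime] (P : Sylow p G) (H : Subgroup G)
    (hPH : (P : Subgroup G) ≤ H)
    (h : ∀ U : Subgroup H, U.Normal → U.index = p →
      ((P : Subgroup G) ⊓ pResidual p G).subgroupOf H ≤ U) :
    pResidual p G ⊓ H = (pResidual p H).map H.subtype := by
  have := pResidual_normal (G := G) p
  refine le_antisymm ?_ (le_inf (map_pResidual_le p _) (map_subtype_le _))
  refine inf_le_pResidual_of_forall_index _ H (pResidual_pResidual p)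
    (fun hd => P.not_dvd_index (hd.trans (index_dvd_of_le hPH))) fun U hU hUi => ?_
  intro x hx
  have h1 : Grp.IsSylowIn p ((P : Subgroup G) ⊓ (pResidual p G ⊓ H)) (pResidual p G ⊓ H) :=
    (Grp.isSylowIn_of_le P hPH).inf_of_normalized inf_le_right
      (Grp.le_normalizer_inf' (by simp [normalizer_eq_top]) le_normalizer)
  have h2 : (U.map H.subtype).relIndex (pResidual p G ⊓ H) ∣ p ^ 1 := by
    rw [pow_one, ← hUi, ← subgroupOf_map_subtype, relIndex_map_map_of_injective _ _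
      H.subtype_injective]
    exact relIndex_dvd_index_of_normal _ _
  obtain ⟨n, -, hn⟩ := (Nat.dvd_prime_pow hp.out).mp h2
  obtain ⟨u, ⟨u, hu, rfl⟩, s, hs, e⟩ := h1.exists_mul_eq_of_relIndex_pow hn ⟨hx, x.2⟩
  have h3 : (⟨s, hs.2.2⟩ : H) ∈ U := h U hU hUi ⟨hs.1, hs.2.1⟩
  rw [show x = u * ⟨s, hs.2.2⟩ from Subtype.ext e]
  exact U.mul_mem hu h3

/-- Tate: control of transfer gives `H ∩ O^p(G) = O^p(H)`. -/
theorem tate_of_commutator [Finite G] {p : ℕ} [hp : Fact p.Prime] (P : Sylow p G) (H : Subgroup G)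
    (hPH : (P : Subgroup G) ≤ H) (h : commutator G ⊓ P ≤ ⁅H, H⁆) :
    pResidual p G ⊓ H = (pResidual p H).map H.subtype := by
  refine tate P H hPH fun U hU hUi => ?_
  rw [← map_subtype_le_map_subtype, subgroupOf_map_subtype]
  refine inf_le_left.trans ((inf_comm _ _).le.trans ((pResidual_inf_sylow_le_focal P).trans ?_))
  rw [← commutator_inf_eq_focalSubgroup]
  refine h.trans ?_
  rw [← map_subtype_commutator]
  exact map_mono (Grp.commutator_le_of_index_prime (hUi ▸ hp.out))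

/-- Tate: if `P ∩ O^p(G) ≤ Φ(P)` then `G` has a normal `p`-complement. -/
theorem hasNormalPComplement_of_inf_pResidual_le_frattini [Finite G] {p : ℕ} [hp : Fact p.Prime]
    (P : Sylow p G)
    (h : (P : Subgroup G) ⊓ pResidual p G ≤ (frattini P).map (P : Subgroup G).subtype) :
    HasNormalPComplement p G := by
  refine hasNormalPComplement_of_inf_pResidual P ?_
  have h1 := tate P P le_rfl fun U hU hUi => by
    rw [← map_subtype_le_map_subtype, subgroupOf_map_subtype]
    exact inf_le_left.trans (h.trans (map_mono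
      (frattini_le_coatom (Grp.isCoatom_of_index_prime (by rw [hUi]; exact hp.out)))))
  have h2 : pResidual p (P : Subgroup G) = ⊥ :=
    le_bot_iff.mp (by simpa using pResidual_le_ker P.2 (MonoidHom.id _))
  rw [inf_comm, h1, h2, Subgroup.map_bot]

/-- Huppert's form of Tate's theorem: if `N` is normal and `N ∩ P ≤ Φ(P)` then `P ∩ O^p(N) = 1`. -/
theorem inf_pResidual_eq_bot_of_le_frattini [Finite G] {p : ℕ} [hp : Fact p.Prime]
    (P : Sylow p G) (N : Subgroup G) [N.Normal]
    (h : N ⊓ (P : Subgroup G) ≤ (frattini P).map (P : Subgroup G).subtype) :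
    (pResidual p N).map N.subtype ⊓ (P : Subgroup G) = ⊥ := by
  have := pResidual_characteristic (G := N) p
  have h0 : pResidual p ((pResidual p N).map N.subtype) = ⊤ := by
    let e := equivMapOfInjective (pResidual p N) N.subtype N.subtype_injective
    rw [eq_top_iff, ← map_top_of_surjective e.toMonoidHom e.surjective, ← pResidual_pResidual p]
    exact map_pResidual_le p _
  have h1 := inf_le_pResidual_of_forall_index ((pResidual p N).map N.subtype) (P : Subgroup G) h0
    P.not_dvd_index fun U hU hUi => by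
      rw [← map_subtype_le_map_subtype, subgroupOf_map_subtype]
      exact (inf_le_inf_right _ (map_subtype_le _)).trans (h.trans (map_mono
        (frattini_le_coatom (Grp.isCoatom_of_index_prime (by rw [hUi]; exact hp.out)))))
  have h2 : pResidual p (P : Subgroup G) = ⊥ :=
    le_bot_iff.mp (by simpa using pResidual_le_ker P.2 (MonoidHom.id _))
  rwa [h2, Subgroup.map_bot, le_bot_iff] at h1

end CL.Transfer
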